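import Groth.Agent.H8Props.HartogsTwo
import Mathlib.RingTheory.Flat.EquationalCriterion
import Mathlib.Algebra.Module.Torsion.Free

/-!
# Extension of elements of flat modules across loci with regular pairs
-/

set_option autoImplicit false

universe u

namespace Groth.Agent.H14FlatHartogs

open Groth.Agent.H8Props

variable {R : Type u} [CommRing R] {ι : Type} [Finite ι] (f : ι → R) {M : Type u} [AddCommGroup M] [Module R M]

theorem eq_zero_of_forall_pow_smul [Module.Flat R M] (h : HartogsTwo.HasPairs f) {r : M}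
    (hr : ∀ i, ∃ n : ℕ, f i ^ n • r = 0) : r = 0 := by
  classical
  haveI := Fintype.ofFinite ι
  choose n hn using hr
  let φ : (ι →₀ R) →ₗ[R] R := Finsupp.linearCombination R fun i => f i ^ n i
  let x : R →ₗ[R] M := LinearMap.toSpanSingleton R M r
  have hx : x ∘ₗ φ = 0 := by
    refine Finsupp.lhom_ext fun i c => ?_
    simp [φ, x, mul_smul, hn]
  obtain ⟨k, a, y, hxy, ha⟩ := Module.Flat.exists_factorization_of_comp_eq_zero_of_free hx
  have h0 : a 1 = 0 := by
    refine Finsupp.ext fun j => HartogsTwo.eq_zero_of_forall_pow_mul f h fun i => ⟨n i, ?_⟩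
    have h1 := LinearMap.congr_fun ha (Finsupp.single i 1)
    rw [LinearMap.comp_apply, LinearMap.zero_apply,
      show φ (Finsupp.single i 1) = f i ^ n i • (1 : R) by simp [φ], map_smul] at h1
    simpa using DFunLike.congr_fun h1 j
  calc r = x 1 := by simp [x]
    _ = y (a 1) := by rw [hxy]; rfl
    _ = 0 := by rw [h0, map_zero]

theorem exists_extension [Module.Flat R M] (h : HartogsTwo.HasPairs f) (c : ι → M) (n : ι → ℕ)
    (hc : ∀ i j, ∃ m : ℕ, (f i * f j) ^ m • (f j ^ n j • c i - f i ^ n i • c j) = 0) :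
    ∃ r : M, ∀ i, ∃ m : ℕ, f i ^ m • (f i ^ n i • r - c i) = 0 := by
  classical
  haveI := Fintype.ofFinite ι
  choose m hm using hc
  let φ : (ι × ι →₀ R) →ₗ[R] (ι →₀ R) := Finsupp.linearCombination R fun p =>
    (f p.1 * f p.2) ^ m p.1 p.2 • (Finsupp.single p.1 (f p.2 ^ n p.2) - Finsupp.single p.2 (f p.1 ^ n p.1))
  let x : (ι →₀ R) →ₗ[R] M := Finsupp.linearCombination R c
  have hx : x ∘ₗ φ = 0 := by
    refine Finsupp.lhom_ext fun p b => ?_
    simp [φ, x, map_sub, map_smul, hm]
  obtain ⟨k, a, y, hxy, ha⟩ := Module.Flat.exists_factorization_of_comp_eq_zero_of_free hx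
  have key : ∀ l : Fin k, ∃ r : R, ∀ i, ∃ m' : ℕ, f i ^ m' * (f i ^ n i * r - a (Finsupp.single i 1) l) = 0 :=
    fun l => by
      refine HartogsTwo.exists_extension f h (fun i => a (Finsupp.single i 1) l) n fun i j => ⟨m i j, ?_⟩
      have h1 := LinearMap.congr_fun ha (Finsupp.single (i, j) 1)
      rw [LinearMap.comp_apply, LinearMap.zero_apply,
        show φ (Finsupp.single (i, j) 1) = (f i * f j) ^ m i j •
          (f j ^ n j • Finsupp.single i (1 : R) - f i ^ n i • Finsupp.single j (1 : R)) by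
            simp [φ], map_smul, map_sub, map_smul, map_smul] at h1
      have h2 := DFunLike.congr_fun h1 l
      simp only [Finsupp.smul_apply, Finsupp.sub_apply, smul_eq_mul, Finsupp.coe_zero, Pi.zero_apply] at h2
      linear_combination h2
  choose r m' hr using key
  refine ⟨y (∑ l, Finsupp.single l (r l)), fun i => ⟨Finset.univ.sup fun l => m' l i, ?_⟩⟩
  have hci : c i = y (a (Finsupp.single i 1)) := by
    rw [← LinearMap.comp_apply, ← hxy]
    simp [x]
  rw [hci, ← map_smul, ← map_sub, ← map_smul]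
  refine (congrArg y (Finsupp.ext fun l => ?_)).trans (map_zero y)
  obtain ⟨e, he⟩ := Nat.le.dest (Finset.le_sup (f := fun l => m' l i) (Finset.mem_univ l))
  simp only [Finsupp.smul_apply, Finsupp.sub_apply, smul_eq_mul, Finsupp.coe_zero, Pi.zero_apply,
    Finsupp.finsetSum_apply, Finsupp.single_apply, Finset.sum_ite_eq', Finset.mem_univ, if_true]
  rw [← he, pow_add]
  linear_combination f i ^ e * hr l i

end Groth.Agent.H14FlatHartogs
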