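import Groth.Agent.H14FlatHartogs.Alg
import Groth.Agent.H13CI.HartogsFree
import Groth.Agent.H8Props.FinLocFree.Sheaf
import Groth.Agent.H1CAlg.Serre
import Groth.Agent.H4Depth.IdealDepth
import Groth.Agent.H4Depth.CM

/-!
# Flat quasi-coherent modules extend across codimension two on normal schemes
-/

set_option autoImplicit false
set_option backward.isDefEq.respectTransparency false

universe u

open CategoryTheory CategoryTheory.Limits AlgebraicGeometry TopologicalSpace Opposite IsLocalRing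

namespace Groth.Agent.H14FlatHartogs

open Groth.Agent.H8Props Groth.Agent.H29Fitt

variable {X : Scheme.{u}}

theorem res_res (E : X.Modules) {A B C : X.Opens} (i : B ≤ A) (j : C ≤ B) (r : Γ(E, A)) :
    E.presheaf.map (homOfLE j).op (E.presheaf.map (homOfLE i).op r) =
      E.presheaf.map (homOfLE (j.trans i)).op r :=
  (congr($(E.presheaf.map_comp (homOfLE i).op (homOfLE j).op) r)).symm

/-- Restriction from an affine open `V` to a quasi-compact open `W ≤ V` is bijective on a flat quasi-coherent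
module if every local ring at a point of `V` outside `W` has a regular sequence of length two. -/
theorem bijective_restrict (E : X.Modules) (hE : Coh.IsQCoh E) {V W : X.Opens} (hV : IsAffineOpen V)
    (hflat : ∀ x : V, FlatMod.IsFlatAt E x.1) (hWV : W ≤ V) (hW : IsCompact (W : Set X))
    (hZ : ∀ z : X, z ∈ V → z ∉ W → ∃ a b : X.presheaf.stalk z,
      a ∈ maximalIdeal (X.presheaf.stalk z) ∧ b ∈ maximalIdeal (X.presheaf.stalk z) ∧
        RingTheory.Sequence.IsWeaklyRegular (X.presheaf.stalk z) [a, b]) :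
    Function.Bijective (E.presheaf.map (homOfLE hWV).op).hom := by
  classical
  haveI : Module.Flat Γ(X, V) Γ(E, V) := (FinLocFree.flat_sections_iff E hE hV).2 hflat
  have hcov : ∀ x : W, ∃ f : Γ(X, V), X.basicOpen f ≤ W ∧ (x : X) ∈ X.basicOpen f := fun x =>
    hV.exists_basicOpen_le x (hWV x.2)
  choose F hFW hFx using hcov
  obtain ⟨s, hs⟩ := hW.elim_finite_subcover (fun x : W => (X.basicOpen (F x) : Set X))
    (fun x => (X.basicOpen (F x)).2) fun x hx => Set.mem_iUnion.mpr ⟨⟨x, hx⟩, hFx ⟨x, hx⟩⟩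
  obtain ⟨N, ⟨e⟩⟩ : ∃ N : ℕ, Nonempty (Fin N ≃ s) := ⟨_, ⟨(Fintype.equivFin s).symm⟩⟩
  let f : Fin N → Γ(X, V) := fun x => F (e x)
  have hle : ∀ i, X.basicOpen (f i) ≤ W := fun i => hFW (e i)
  have hcover : W ≤ iSup fun i => X.basicOpen (f i) := fun x hx => by
    obtain ⟨y, hy, hxy⟩ := Set.mem_iUnion₂.mp (hs hx)
    exact Opens.mem_iSup.mpr ⟨e.symm ⟨y, hy⟩, by simpa [f] using hxy⟩
  have hpairs : HartogsTwo.HasPairs f := by
    intro p hp hfp
    obtain ⟨z, hzV, hzp⟩ : ∃ z, ∃ hz : z ∈ V, (hV.primeIdealOf ⟨z, hz⟩) = ⟨p, hp⟩ := by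
      refine ⟨hV.fromSpec ⟨p, hp⟩, by rw [← SetLike.mem_coe, ← hV.range_fromSpec]; exact ⟨_, rfl⟩,
        hV.fromSpec.isOpenEmbedding.injective ?_⟩
      rw [hV.fromSpec_primeIdealOf]
    have hzW : z ∉ W := by
      intro hzW
      obtain ⟨i, hi⟩ := Opens.mem_iSup.mp (hcover hzW)
      have : hV.primeIdealOf ⟨z, hzV⟩ ∈ PrimeSpectrum.basicOpen (f i) := by
        rw [← hV.fromSpec_preimage_basicOpen]
        show hV.fromSpec (hV.primeIdealOf ⟨z, hzV⟩) ∈ X.basicOpen (f i)
        rwa [hV.fromSpec_primeIdealOf]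
      rw [hzp] at this
      exact this (hfp i)
    obtain ⟨a, b, ha, hb, hab⟩ := hZ z hzV hzW
    letI := X.presheaf.algebra_section_stalk ⟨z, hzV⟩
    have : IsLocalization.AtPrime (X.presheaf.stalk z) p := by
      convert hV.isLocalization_stalk ⟨z, hzV⟩
      rw [hzp]
    let ε : X.presheaf.stalk z ≃+* Localization.AtPrime p :=
      (IsLocalization.algEquiv p.primeCompl (X.presheaf.stalk z) (Localization.AtPrime p)).toRingEquiv
    refine ⟨ε a, ε b, ?_, ?_, ?_⟩
    · rwa [mem_maximalIdeal, mem_nonunits_iff, isUnit_map_iff, ← mem_nonunits_iff, ← mem_maximalIdeal]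
    · rwa [mem_maximalIdeal, mem_nonunits_iff, isUnit_map_iff, ← mem_nonunits_iff, ← mem_maximalIdeal]
    · exact (ε.toAddEquiv.isWeaklyRegular_congr (by simp [List.forall₂_cons])).mp hab
  have hzero : ∀ (t : Γ(X, V)) (m : Γ(E, V)),
      E.presheaf.map (homOfLE (X.basicOpen_le t)).op m = 0 → ∃ n : ℕ, t ^ n • m = 0 := fun t m hm => by
    letI := Module.compHom Γ(E, X.basicOpen t) (algebraMap Γ(X, V) Γ(X, X.basicOpen t))
    haveI := isLocalizedModule_resLin E hE hV t
    obtain ⟨⟨_, n, rfl⟩, hn⟩ := (IsLocalizedModule.eq_zero_iff (Submonoid.powers t) (resLin E t)).1 hm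
    exact ⟨n, hn⟩
  constructor
  · refine (injective_iff_map_eq_zero _).mpr fun r hr => eq_zero_of_forall_pow_smul f hpairs fun i => ?_
    refine hzero (f i) r ?_
    rw [← res_res E hWV (hle i) r]
    erw [hr, map_zero]
  · intro σ
    have hsurj : ∀ i, ∃ (n : ℕ) (a : Γ(E, V)),
        X.presheaf.map (homOfLE (X.basicOpen_le (f i))).op (f i) ^ n •
          E.presheaf.map (homOfLE (hle i)).op σ = E.presheaf.map (homOfLE (X.basicOpen_le (f i))).op a := by
      intro i
      letI := Module.compHom Γ(E, X.basicOpen (f i)) (algebraMap Γ(X, V) Γ(X, X.basicOpen (f i)))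
      haveI := isLocalizedModule_resLin E hE hV (f i)
      obtain ⟨⟨a, ⟨_, n, rfl⟩⟩, ha⟩ := IsLocalizedModule.surj (Submonoid.powers (f i)) (resLin E (f i))
        (E.presheaf.map (homOfLE (hle i)).op σ)
      refine ⟨n, a, ?_⟩
      rw [← map_pow]
      exact ha
    choose n c hc using hsurj
    have hcompat : ∀ i j, ∃ m : ℕ, (f i * f j) ^ m • (f j ^ n j • c i - f i ^ n i • c j) = 0 := by
      intro i j
      have hi : X.basicOpen (f i * f j) ≤ X.basicOpen (f i) := by
        rw [Scheme.basicOpen_mul]; exact inf_le_left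
      have hj : X.basicOpen (f i * f j) ≤ X.basicOpen (f j) := by
        rw [Scheme.basicOpen_mul]; exact inf_le_right
      have ei := congrArg (E.presheaf.map (homOfLE hi).op) (hc i)
      have ej := congrArg (E.presheaf.map (homOfLE hj).op) (hc j)
      simp only [Scheme.Modules.map_smul, map_pow, HartogsTwo.map_map_apply, res_res] at ei ej
      refine hzero _ _ ?_
      rw [map_sub, Scheme.Modules.map_smul, Scheme.Modules.map_smul, map_pow, map_pow]
      erw [← ei, ← ej]
      rw [smul_smul, smul_smul, sub_eq_zero]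
      exact congrArg (· • _) (mul_comm _ _)
    obtain ⟨r, hr⟩ := exists_extension f hpairs c n hcompat
    refine ⟨r, TopCat.Sheaf.eq_of_locally_eq' (⟨E.presheaf, E.isSheaf⟩ : TopCat.Sheaf Ab X)
      (fun i => X.basicOpen (f i)) W (fun i => homOfLE (hle i)) hcover _ _ fun i => ?_⟩
    obtain ⟨m, hm⟩ := hr i
    haveI := hV.isLocalization_basicOpen (f i)
    have hu : IsUnit (X.presheaf.map (homOfLE (X.basicOpen_le (f i))).op (f i)) :=
      IsLocalization.Away.algebraMap_isUnit (f i)
    have h1 := congrArg (E.presheaf.map (homOfLE (X.basicOpen_le (f i))).op) hm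
    rw [Scheme.Modules.map_smul, map_zero, map_pow, (hu.pow m).smul_eq_zero, map_sub,
      Scheme.Modules.map_smul, map_pow, sub_eq_zero] at h1
    refine Eq.trans (res_res E hWV (hle i) r) ((hu.pow (n i)).smul_left_cancel.mp ?_)
    exact h1.trans (hc i).symm

/-- On a Noetherian normal scheme a flat quasi-coherent module is the direct image of its restriction to an
open containing all points of codimension at most one. -/
theorem isIso_unit [IsNoetherian X] (hX : Pi1.IsNormalScheme X) (E : X.Modules) (hE : Coh.IsQCoh E)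
    (hEfl : FlatMod.IsFlat E) (U : X.Opens) (hU : ∀ s : X, ringKrullDim (X.presheaf.stalk s) ≤ 1 → s ∈ U) :
    IsIso ((Scheme.Modules.restrictAdjunction U.ι).unit.app E) := by
  refine H13HartogsFree.isIso_of_bijective_basis _ IsAffineOpen (fun O x hx => ?_) fun V hV => ?_
  · obtain ⟨V, hV, hxV, hle⟩ := exists_isAffineOpen_mem_and_subset (U := O) (x := x) hx
    exact ⟨V, hV, hxV, hle⟩
  rw [Scheme.Modules.restrictAdjunction_unit_app_app]
  have hWV : U.ι ''ᵁ (U.ι ⁻¹ᵁ V) = U ⊓ V := by
    rw [Scheme.Hom.image_preimage_eq_opensRange_inf, Scheme.Opens.opensRange_ι]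
  refine H13HartogsFree.bij_congr E rfl hWV.symm inf_le_right _
    (bijective_restrict E hE hV (fun x => hEfl x.1) inf_le_right (NoetherianSpace.isCompact _) fun z hzV hz => ?_)
  haveI := (hX z).1
  haveI := (hX z).2
  have hdim : 2 ≤ ringKrullDim (X.presheaf.stalk z) := by
    have h1 : 1 < ringKrullDim (X.presheaf.stalk z) := not_le.1 fun h => hz ⟨hU z h, hzV⟩
    exact Order.succ_le_of_lt h1
  obtain ⟨rs, hlen, hmem, hreg⟩ := H4Depth.exists_isWeaklyRegular_of_le_idealDepth
    (H4Depth.maximalIdeal_smul_top_ne_top (R := X.presheaf.stalk z) (M := X.presheaf.stalk z))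
    (n := 2) (H1CAlg.depth_ge_two_of_isIntegrallyClosed hdim)
  match rs, hlen with
  | [a, b], _ => exact ⟨a, b, hmem a (by simp), hmem b (by simp), hreg⟩

end Groth.Agent.H14FlatHartogs
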